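import Mathlib
import Cfsg.Agent.Lib.SL2.DicksonSL2

/-!
Two quadratic elements: an irreducible constituent on which they act non-trivially is the natural
module of `SL(2, F)`, `F = F_p(λ)`, with `a ↦ [[1, λ], [0, 1]]`, `b ↦ [[1, 0], [1, 1]]`.
-/

set_option autoImplicit false
set_option linter.style.haveILetI false

namespace CfsgLib.Quadratic

open scoped MatrixGroups

universe u v

variable {G : Type u} [Group G] {p : ℕ}

/-- Restriction of an action to an invariant subgroup. -/
def restrict {V : Type v} [AddCommGroup V] (φ : G →* AddMonoid.End V) (U : AddSubgroup V)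
    (hU : ∀ g, ∀ u ∈ U, φ g u ∈ U) : G →* AddMonoid.End U where
  toFun g := { toFun := fun u => ⟨φ g u, hU g u u.2⟩
               map_zero' := Subtype.ext (map_zero _)
               map_add' := fun a b => Subtype.ext (map_add _ _ _) }
  map_one' := AddMonoidHom.ext fun u => Subtype.ext (by
    show φ 1 u = u
    rw [map_one]; rfl)
  map_mul' g h := AddMonoidHom.ext fun u => Subtype.ext (by
    show φ (g * h) u = φ g (φ h u)
    rw [map_mul]; rfl)

/-- The action on the quotient by an invariant subgroup. -/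
def onQuotient {V : Type v} [AddCommGroup V] (φ : G →* AddMonoid.End V) (U : AddSubgroup V)
    (hU : ∀ g, ∀ u ∈ U, φ g u ∈ U) : G →* AddMonoid.End (V ⧸ U) where
  toFun g := QuotientAddGroup.map U U (φ g) fun u hu => hU g u hu
  map_one' := AddMonoidHom.ext fun x => by
    induction x using QuotientAddGroup.induction_on with
    | H u => show ((φ 1 u : V) : V ⧸ U) = _; rw [map_one]; rfl
  map_mul' g h := AddMonoidHom.ext fun x => by
    induction x using QuotientAddGroup.induction_on with
    | H u => show ((φ (g * h) u : V) : V ⧸ U) = ((φ g (φ h u) : V) : V ⧸ U); rw [map_mul]; rfl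

/-- No proper non-trivial invariant subgroups. -/
def Irreducible {W : Type v} [AddCommGroup W] (ψ : G →* AddMonoid.End W) : Prop :=
  Nontrivial W ∧ ∀ U : AddSubgroup W, (∀ g, ∀ u ∈ U, ψ g u ∈ U) → U = ⊥ ∨ U = ⊤

/-- An irreducible constituent on which a subgroup that is not a `p`-group acts non-trivially. -/
theorem exists_irreducible_factor (N : Subgroup G) :
    ∀ (n : ℕ) (V : Type v) [AddCommGroup V] [Finite V], Nat.card V = n → (∀ v : V, p • v = 0) →
    ∀ φ : G →* AddMonoid.End V, (¬ ∀ x ∈ N, ∃ k, φ x ^ p ^ k = 1) →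
      ∃ (W : Type v) (_ : AddCommGroup W) (_ : Finite W) (ψ : G →* AddMonoid.End W),
        (∀ w : W, p • w = 0) ∧ Irreducible ψ ∧ (∃ x ∈ N, ψ x ≠ 1) ∧
        (∀ g, (φ g - 1) * (φ g - 1) = 0 → (ψ g - 1) * (ψ g - 1) = 0) ∧
        (∀ g, φ g = 1 → ψ g = 1) ∧
        ∃ (U : AddSubgroup V) (hU : ∀ g, ∀ u ∈ U, φ g u ∈ U) (f : U →+ W), Function.Surjective f ∧
          ∀ g (u : U), f ⟨φ g u, hU g u u.2⟩ = ψ g (f u) := by
  intro n
  induction n using Nat.strong_induction_on with
  | _ n IH =>
  intro V _ _ hn hV φ hN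
  classical
  haveI := Fintype.ofFinite (AddSubgroup V)
  have hnt : Nontrivial V := by
    by_contra hs
    rw [not_nontrivial_iff_subsingleton] at hs
    exact hN fun x _ => ⟨0, AddMonoidHom.ext fun v => Subsingleton.elim _ _⟩
  obtain ⟨U, hU, hmin⟩ := Finset.exists_min_image
    (Finset.univ.filter fun U : AddSubgroup V => U ≠ ⊥ ∧ ∀ g, ∀ u ∈ U, φ g u ∈ U)
    (fun U => Nat.card U) ⟨⊤, Finset.mem_filter.mpr ⟨Finset.mem_univ _, top_ne_bot,
      fun _ u _ => AddSubgroup.mem_top _⟩⟩
  simp only [Finset.mem_filter, Finset.mem_univ, true_and] at hU hmin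
  obtain ⟨hU0, hUi⟩ := hU
  haveI : Nontrivial U := (AddSubgroup.nontrivial_iff_ne_bot _).mpr hU0
  by_cases htriv : ∀ x ∈ N, ∀ u ∈ U, φ x u = u
  · have hlt : Nat.card (V ⧸ U) < n := by
      rw [← hn, AddSubgroup.card_eq_card_quotient_mul_card_addSubgroup U]
      exact lt_mul_of_one_lt_right Nat.card_pos (Finite.one_lt_card_iff_nontrivial.mpr inferInstance)
    obtain ⟨W, i1, i2, ψ, h1, h2, h3, h4, h5, U', hU', f', hf', hf'e⟩ := IH _ hlt (V ⧸ U) rfl (fun x => by
        induction x using QuotientAddGroup.induction_on with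
        | H u => rw [← QuotientAddGroup.mk_nsmul, hV]; rfl)
      (onQuotient φ U hUi) (fun h => hN fun x hx => by
        obtain ⟨k, hk⟩ := h x hx
        refine ⟨k + 1, AddMonoidHom.ext fun v => ?_⟩
        set y := φ (x ^ p ^ k) with hy
        have hyU : ∀ u ∈ U, y u = u := htriv _ (pow_mem hx _)
        have hyv : y v - v ∈ U := by
          have h1 := DFunLike.congr_fun hk (v : V ⧸ U)
          rw [← map_pow] at h1
          have h2 : ((y v : V) : V ⧸ U) = (v : V ⧸ U) := h1
          exact (QuotientAddGroup.eq_iff_sub_mem).mp h2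
        have hpow : ∀ j : ℕ, (y ^ j) v = v + j • (y v - v) := by
          intro j
          induction j with
          | zero => simp
          | succ j ih =>
            rw [pow_succ']
            show y ((y ^ j) v) = _
            rw [ih, map_add, map_nsmul, hyU _ hyv, succ_nsmul]
            abel
        show (φ x ^ p ^ (k + 1)) v = v
        rw [pow_succ, pow_mul, ← map_pow, ← hy, hpow, hV, add_zero])
    exact ⟨W, i1, i2, ψ, h1, h2, h3, fun g hg => h4 g (AddMonoidHom.ext fun x => by
        induction x using QuotientAddGroup.induction_on with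
        | H u =>
          show ((φ g (φ g u - u) - (φ g u - u) : V) : V ⧸ U) = 0
          rw [show φ g (φ g u - u) - (φ g u - u) = 0 from DFunLike.congr_fun hg u]
          rfl),
      fun g hg => h5 g (AddMonoidHom.ext fun x => by
        induction x using QuotientAddGroup.induction_on with
        | H u => show ((φ g u : V) : V ⧸ U) = _; rw [hg]; rfl),
      U'.comap (QuotientAddGroup.mk' U), fun g u hu => hU' g _ hu,
      f'.comp ((QuotientAddGroup.mk' U).addSubgroupComap U'),
      hf'.comp ((QuotientAddGroup.mk' U).addSubgroupComap_surjective_of_surjective U'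
        (QuotientAddGroup.mk'_surjective U)),
      fun g u => hf'e g ⟨_, u.2⟩⟩
  · push Not at htriv
    obtain ⟨x, hx, u, hu, hne⟩ := htriv
    refine ⟨U, inferInstance, inferInstance, restrict φ U hUi, fun w => Subtype.ext (hV _),
      ⟨inferInstance, fun U' hU' => ?_⟩, ⟨x, hx, fun h => hne ?_⟩,
      fun g hg => AddMonoidHom.ext fun w => Subtype.ext ?_,
      fun g hg => AddMonoidHom.ext fun w => Subtype.ext ?_,
      U, hUi, AddMonoidHom.id U, Function.surjective_id, fun g u => rfl⟩
    · rw [or_iff_not_imp_left]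
      intro hne'
      have hm := hmin (U'.map U.subtype) ⟨fun h => hne'
        ((AddSubgroup.map_eq_bot_iff_of_injective _ Subtype.val_injective).mp h), by
        rintro g _ ⟨w, hw, rfl⟩
        exact ⟨_, hU' g w hw, rfl⟩⟩
      rw [AddSubgroup.card_map_of_injective Subtype.val_injective] at hm
      exact AddSubgroup.eq_top_of_le_card U' hm
    · exact congrArg Subtype.val (DFunLike.congr_fun h ⟨u, hu⟩)
    · exact DFunLike.congr_fun hg (w : V)
    · show φ g w = w
      rw [hg]; rfl

/-- The structure of an irreducible pair of quadratic elements. -/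
theorem exists_sl2_of_irreducible [hp : Fact p.Prime] {W : Type v} [AddCommGroup W] [Finite W]
    (hW : ∀ w : W, p • w = 0) (ψ : G →* AddMonoid.End W) (hψ : Irreducible ψ) {a b : G}
    (hgen : Subgroup.closure ({a, b} : Set G) = ⊤) (ha : (ψ a - 1) * (ψ a - 1) = 0)
    (hb : (ψ b - 1) * (ψ b - 1) = 0) (hnt : ∃ g, ψ g ≠ 1) :
    ∃ (F : Type v) (_ : Field F) (_ : Fintype F) (_ : CharP F p) (lam : F), lam ≠ 0 ∧
      Subfield.closure ({lam} : Set F) = ⊤ ∧
      ∃ ρ : G →* SL(2, F), ρ a = SL2.up lam ∧ ρ b = SL2.lo 1 ∧ (∀ g, ψ g = 1 ↔ ρ g = 1) ∧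
        ∃ e : (Fin 2 → F) ≃+ W, ∀ g x, ψ g (e x) = e ((ρ g).1.mulVec x) := by
  classical
  haveI := hψ.1
  set Na := ψ a - 1 with hNa
  set Nb := ψ b - 1 with hNb
  have hψa : ψ a = 1 + Na := by rw [hNa]; abel
  have hψb : ψ b = 1 + Nb := by rw [hNb]; abel
  have hinv : ∀ (g : G) (N : AddMonoid.End W), ψ g = 1 + N → N * N = 0 → ψ g⁻¹ = 1 - N := by
    intro g N hg hN
    have h1 : (1 - N) * ψ g = 1 := by
      rw [hg]; simp [mul_add, sub_mul, hN]
    calc ψ g⁻¹ = ((1 - N) * ψ g) * ψ g⁻¹ := by rw [h1, one_mul]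
      _ = 1 - N := by rw [mul_assoc, ← map_mul, mul_inv_cancel, map_one, mul_one]
  have key : ∀ U : AddSubgroup W, (∀ u ∈ U, Na u ∈ U) → (∀ u ∈ U, Nb u ∈ U) →
      ∀ g, ∀ u ∈ U, ψ g u ∈ U := by
    intro U h1 h2 g
    suffices h : (∀ u ∈ U, ψ g u ∈ U) ∧ ∀ u ∈ U, ψ g⁻¹ u ∈ U from h.1
    have hg : g ∈ Subgroup.closure ({a, b} : Set G) := hgen ▸ Subgroup.mem_top g
    induction hg using Subgroup.closure_induction with
    | mem x hx =>
      rcases hx with rfl | rfl
      · exact ⟨fun u hu => by rw [hψa]; exact add_mem hu (h1 u hu),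
          fun u hu => by rw [hinv _ Na hψa ha]; exact sub_mem hu (h1 u hu)⟩
      · exact ⟨fun u hu => by rw [hψb]; exact add_mem hu (h2 u hu),
          fun u hu => by rw [hinv _ Nb hψb hb]; exact sub_mem hu (h2 u hu)⟩
    | one => exact ⟨fun u hu => by rw [map_one]; exact hu,
        fun u hu => by rw [inv_one, map_one]; exact hu⟩
    | mul x y _ _ hx hy =>
      exact ⟨fun u hu => by rw [map_mul]; exact hx.1 _ (hy.1 u hu),
        fun u hu => by rw [mul_inv_rev, map_mul]; exact hy.2 _ (hx.2 u hu)⟩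
    | inv x _ hx => exact ⟨hx.2, by rw [inv_inv]; exact hx.1⟩
  have hker : ∀ N : AddMonoid.End W, N * N = 0 → ∃ v, v ≠ 0 ∧ N v = 0 := by
    intro N hN
    by_cases h0 : N = 0
    · obtain ⟨v, hv⟩ := exists_ne (0 : W)
      exact ⟨v, hv, by rw [h0]; rfl⟩
    · obtain ⟨v, hv⟩ := DFunLike.ne_iff.mp h0
      exact ⟨N v, hv, DFunLike.congr_fun hN v⟩
  have hgenfix : ψ a = 1 → ψ b = 1 → ∀ g, ψ g = 1 := by
    intro h1 h2 g
    have hg : g ∈ Subgroup.closure ({a, b} : Set G) := hgen ▸ Subgroup.mem_top g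
    induction hg using Subgroup.closure_induction with
    | mem x hx => rcases hx with rfl | rfl <;> assumption
    | one => exact map_one ψ
    | mul x y _ _ hx hy => rw [map_mul, hx, hy, one_mul]
    | inv x _ hx =>
      have h3 : ψ (x⁻¹ * x) = 1 := by rw [inv_mul_cancel, map_one]
      rwa [map_mul, hx, mul_one] at h3
  have hone : ∀ M N : AddMonoid.End W, N * N = 0 → M = 0 → (∀ U : AddSubgroup W,
      (∀ u ∈ U, M u ∈ U) → (∀ u ∈ U, N u ∈ U) → U = ⊥ ∨ U = ⊤) → N = 0 := by
    intro M N hN hM hirr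
    obtain ⟨v, hv, hNv⟩ := hker N hN
    rcases hirr N.ker (fun u _ => by rw [hM]; exact zero_mem _)
      (fun u _ => DFunLike.congr_fun hN u) with h | h
    · exact absurd ((AddSubgroup.eq_bot_iff_forall _).mp h v hNv) hv
    · exact AddMonoidHom.ext fun u => AddMonoidHom.mem_ker.mp (h.ge (AddSubgroup.mem_top u))
  have hirr : ∀ U : AddSubgroup W, (∀ u ∈ U, Na u ∈ U) → (∀ u ∈ U, Nb u ∈ U) → U = ⊥ ∨ U = ⊤ :=
    fun U h1 h2 => hψ.2 U (key U h1 h2)
  have hNa0 : Na ≠ 0 := fun h => by
    obtain ⟨g, hg⟩ := hnt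
    exact hg (hgenfix (by rw [hψa, h, add_zero])
      (by rw [hψb, hone Na Nb hb h hirr, add_zero]) g)
  set s := Na * Nb + Nb * Na with hs
  have hsa : s * Na = Na * s := by
    rw [hs, add_mul, mul_add, mul_assoc Nb, ha, mul_zero, add_zero, ← mul_assoc Na Na, ha,
      zero_mul, zero_add, mul_assoc]
  have hsb : s * Nb = Nb * s := by
    rw [hs, add_mul, mul_add, mul_assoc Na, hb, mul_zero, zero_add, ← mul_assoc Nb Nb, hb,
      zero_mul, add_zero, mul_assoc]
  let R : Subring (AddMonoid.End W) := Subring.closure {s}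
  have hRc : R ≤ Subring.centralizer {Na, Nb} := Subring.closure_le.mpr (by
    rintro x rfl
    refine Subring.mem_centralizer_iff.mpr ?_
    rintro y (rfl | rfl)
    · exact hsa.symm
    · exact hsb.symm)
  have hcomm : ∀ r ∈ R, ∀ w, Na (r w) = r (Na w) ∧ Nb (r w) = r (Nb w) := fun r hr w =>
    ⟨DFunLike.congr_fun (Subring.mem_centralizer_iff.mp (hRc hr) Na (Set.mem_insert _ _)) w,
      DFunLike.congr_fun (Subring.mem_centralizer_iff.mp (hRc hr) Nb
        (Set.mem_insert_of_mem _ rfl)) w⟩
  have hinj : ∀ r ∈ R, r ≠ 0 → ∀ w, r w = 0 → w = 0 := by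
    intro r hr hr0 w hw
    rcases hirr r.ker
      (fun u hu => show r (Na u) = 0 by rw [← (hcomm r hr u).1, show r u = 0 from hu, map_zero])
      (fun u hu => show r (Nb u) = 0 by rw [← (hcomm r hr u).2, show r u = 0 from hu, map_zero])
      with h | h
    · exact (AddSubgroup.eq_bot_iff_forall _).mp h w hw
    · exact absurd (AddMonoidHom.ext fun u => AddMonoidHom.mem_ker.mp (h.ge (AddSubgroup.mem_top u))) hr0
  haveI : Finite R := by
    haveI : Finite (AddMonoid.End W) :=
      Finite.of_injective (fun f : AddMonoid.End W => (f : W → W)) DFunLike.coe_injective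
    infer_instance
  haveI : IsMulCommutative R := Subring.isMulCommutative_closure (fun x hx y hy => by
    rw [Set.mem_singleton_iff] at hx hy
    rw [hx, hy])
  letI : CommRing R := { (inferInstance : Ring R) with mul_comm := mul_comm' }
  haveI : Nontrivial R := ⟨0, 1, fun h => by
    obtain ⟨w, hw⟩ := exists_ne (0 : W)
    exact hw (DFunLike.congr_fun (congrArg Subtype.val h).symm w)⟩
  haveI : NoZeroDivisors R := ⟨fun {x y} hxy => by
    refine or_iff_not_imp_left.mpr fun hx => Subtype.ext (AddMonoidHom.ext fun w => ?_)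
    exact hinj x x.2 (fun h => hx (Subtype.ext h)) _
      (DFunLike.congr_fun (congrArg Subtype.val hxy) w)⟩
  haveI : IsDomain R := NoZeroDivisors.to_isDomain R
  haveI : Fintype R := Fintype.ofFinite R
  letI : Field R := Fintype.fieldOfDomain R
  haveI : CharP R p := by
    obtain ⟨q, hq⟩ := CharP.exists R
    have hp0 : (p : R) = 0 := by
      refine Subtype.ext (AddMonoidHom.ext fun w => ?_)
      show ((p : R) : AddMonoid.End W) w = 0
      rw [Subring.coe_natCast]
      exact hW w
    rcases (Nat.dvd_prime hp.out).mp ((CharP.cast_eq_zero_iff R q p).mp hp0) with h | h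
    · exact absurd h (CharP.char_ne_one R q)
    · exact h ▸ hq
  let sR : R := ⟨s, Subring.subset_closure rfl⟩
  obtain ⟨v, hv, hNav⟩ := hker Na ha
  set w := Nb v with hw
  have hNaw : Na w = s v := by
    have : s v = Na (Nb v) + Nb (Na v) := rfl
    rw [this, hNav, map_zero, add_zero]
  have hNbw : Nb w = 0 := DFunLike.congr_fun hb v
  have hs0 : sR ≠ 0 := fun h => hNa0 <| by
    have hsv : s = 0 := congrArg Subtype.val h
    rcases hirr Na.ker (fun u _ => DFunLike.congr_fun ha u) (fun u hu => show Na (Nb u) = 0 by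
        have h1 : s u = Na (Nb u) + Nb (Na u) := rfl
        rw [show Na u = 0 from hu, map_zero, add_zero, hsv] at h1
        exact h1.symm) with h1 | h1
    · exact absurd ((AddSubgroup.eq_bot_iff_forall _).mp h1 v hNav) hv
    · exact AddMonoidHom.ext fun u => AddMonoidHom.mem_ker.mp (h1.ge (AddSubgroup.mem_top u))
  let θ : (Fin 2 → R) →+ W :=
    { toFun := fun f => (f 0 : AddMonoid.End W) v + (f 1 : AddMonoid.End W) w
      map_zero' := by simp
      map_add' := fun f g => by
        show ((f 0 + g 0 : R) : AddMonoid.End W) v + ((f 1 + g 1 : R) : AddMonoid.End W) w = _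
        rw [Subring.coe_add, Subring.coe_add]
        exact add_add_add_comm _ _ _ _ }
  have hθa : ∀ f : Fin 2 → R, Na (θ f) = θ ![sR * f 1, 0] := fun f => by
    show Na ((f 0 : AddMonoid.End W) v + (f 1 : AddMonoid.End W) w) =
      ((sR * f 1 : R) : AddMonoid.End W) v + ((0 : R) : AddMonoid.End W) w
    rw [map_add, (hcomm _ (f 0).2 v).1, (hcomm _ (f 1).2 w).1, hNav, map_zero, zero_add, hNaw,
      mul_comm sR]
    simp
    rfl
  have hθb : ∀ f : Fin 2 → R, Nb (θ f) = θ ![0, f 0] := fun f => by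
    show Nb ((f 0 : AddMonoid.End W) v + (f 1 : AddMonoid.End W) w) =
      ((0 : R) : AddMonoid.End W) v + ((f 0 : R) : AddMonoid.End W) w
    rw [map_add, (hcomm _ (f 0).2 v).2, (hcomm _ (f 1).2 w).2, hNbw, map_zero, add_zero]
    simp [hw]
  have hθi : Function.Injective θ := by
    refine (injective_iff_map_eq_zero θ).mpr fun f hf => ?_
    have h1 : ((sR * f 1 : R) : AddMonoid.End W) v + ((0 : R) : AddMonoid.End W) w = 0 :=
      (hθa f).symm.trans (by rw [hf, map_zero])
    simp only [ZeroMemClass.coe_zero] at h1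
    rw [show (0 : AddMonoid.End W) w = 0 from rfl, add_zero] at h1
    have hf1 : f 1 = 0 := by
      by_contra h
      exact hv (hinj _ (sR * f 1).2 (fun h' => mul_ne_zero hs0 h (Subtype.ext h')) v h1)
    have h2 : (f 0 : AddMonoid.End W) v + (f 1 : AddMonoid.End W) w = 0 := hf
    simp only [hf1, ZeroMemClass.coe_zero] at h2
    rw [show (0 : AddMonoid.End W) w = 0 from rfl, add_zero] at h2
    have hf0 : f 0 = 0 := by
      by_contra h
      exact hv (hinj _ (f 0).2 (fun h' => h (Subtype.ext h')) v h2)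
    ext i
    fin_cases i <;> simp [hf0, hf1]
  have hθs : Function.Surjective θ := by
    rcases hirr θ.range (by rintro _ ⟨f, rfl⟩; exact ⟨_, (hθa f).symm⟩)
      (by rintro _ ⟨f, rfl⟩; exact ⟨_, (hθb f).symm⟩) with h | h
    · refine absurd ((AddSubgroup.eq_bot_iff_forall _).mp h v ⟨![1, 0], ?_⟩) hv
      show ((1 : R) : AddMonoid.End W) v + ((0 : R) : AddMonoid.End W) w = v
      simp
    · exact AddMonoidHom.range_eq_top.mp h
  let e : (Fin 2 → R) ≃+ W := AddEquiv.ofBijective θ ⟨hθi, hθs⟩
  have heθ : ∀ f, e f = θ f := fun _ => rfl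
  let Φ : SL(2, R) →* AddMonoid.End W :=
    { toFun := fun M =>
        { toFun := fun x => e (Matrix.mulVec M.1 (e.symm x))
          map_zero' := by simp
          map_add' := fun x y => by rw [map_add, Matrix.mulVec_add, map_add] }
      map_one' := AddMonoidHom.ext fun x => by
        show e (Matrix.mulVec (1 : SL(2, R)).1 (e.symm x)) = x
        simp
      map_mul' := fun M N => AddMonoidHom.ext fun x => by
        show e (Matrix.mulVec (M * N).1 (e.symm x)) =
          e (Matrix.mulVec M.1 (e.symm (e (Matrix.mulVec N.1 (e.symm x)))))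
        rw [e.symm_apply_apply, Matrix.mulVec_mulVec, Matrix.SpecialLinearGroup.coe_mul] }
  have hΦi : Function.Injective Φ := fun M N h => by
    apply Subtype.ext
    refine Matrix.ext fun i j => ?_
    have h1 : e (Matrix.mulVec M.1 (e.symm (e (Pi.single j 1)))) =
        e (Matrix.mulVec N.1 (e.symm (e (Pi.single j 1)))) := DFunLike.congr_fun h _
    simp only [AddEquiv.symm_apply_apply, EmbeddingLike.apply_eq_iff_eq,
      Matrix.mulVec_single_one] at h1
    exact congrFun h1 i
  have hΦa : Φ (SL2.up sR) = ψ a := AddMonoidHom.ext fun x => by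
    obtain ⟨f, rfl⟩ := e.surjective x
    show e (Matrix.mulVec (SL2.up sR).1 (e.symm (e f))) = ψ a (e f)
    rw [e.symm_apply_apply, hψa]
    show θ _ = θ f + Na (θ f)
    rw [hθa, ← map_add, SL2.up_coe]
    congr 1
    ext i : 1
    fin_cases i <;> simp [Matrix.mulVec, dotProduct, Fin.sum_univ_two]
  have hΦb : Φ (SL2.lo 1) = ψ b := AddMonoidHom.ext fun x => by
    obtain ⟨f, rfl⟩ := e.surjective x
    show e (Matrix.mulVec (SL2.lo (1 : R)).1 (e.symm (e f))) = ψ b (e f)
    rw [e.symm_apply_apply, hψb]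
    show θ _ = θ f + Nb (θ f)
    rw [hθb, ← map_add, SL2.lo_coe]
    congr 1
    ext i : 1
    fin_cases i <;> simp [Matrix.mulVec, dotProduct, Fin.sum_univ_two, add_comm]
  have hrange : ∀ g, ∃ M, Φ M = ψ g := by
    intro g
    have hg : g ∈ Subgroup.closure ({a, b} : Set G) := hgen ▸ Subgroup.mem_top g
    induction hg using Subgroup.closure_induction with
    | mem x hx => rcases hx with rfl | rfl; exacts [⟨_, hΦa⟩, ⟨_, hΦb⟩]
    | one => exact ⟨1, by rw [map_one, map_one]⟩
    | mul x y _ _ hx hy =>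
      obtain ⟨M, hM⟩ := hx; obtain ⟨N, hN⟩ := hy
      exact ⟨M * N, by rw [map_mul, map_mul, hM, hN]⟩
    | inv x _ hx =>
      obtain ⟨M, hM⟩ := hx
      refine ⟨M⁻¹, ?_⟩
      calc Φ M⁻¹ = Φ M⁻¹ * (ψ x * ψ x⁻¹) := by rw [← map_mul, mul_inv_cancel, map_one, mul_one]
        _ = ψ x⁻¹ := by rw [← mul_assoc, ← hM, ← map_mul, inv_mul_cancel, map_one, one_mul]
  choose ρ hρ using hrange
  let ρ' : G →* SL(2, R) :=
    { toFun := ρ
      map_one' := hΦi (by rw [hρ, map_one, map_one])
      map_mul' := fun x y => hΦi (by rw [hρ, map_mul, map_mul, hρ, hρ]) }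
  refine ⟨R, inferInstance, inferInstance, inferInstance, sR, hs0, ?_, ρ', hΦi ?_, hΦi ?_,
    fun g => ?_, e, fun g x => ?_⟩
  · rw [eq_top_iff]
    rintro ⟨r, hr⟩ -
    induction hr using Subring.closure_induction with
    | mem x hx => rw [Set.mem_singleton_iff] at hx; subst hx; exact Subfield.subset_closure rfl
    | zero => exact zero_mem _
    | one => exact one_mem _
    | add x y hx hy h1 h2 => exact add_mem h1 h2
    | neg x hx h1 => exact neg_mem h1
    | mul x y hx hy h1 h2 => exact mul_mem h1 h2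
  · exact (hρ a).trans hΦa.symm
  · exact (hρ b).trans hΦb.symm
  · refine ⟨fun h => hΦi ((hρ g).trans (h.trans (map_one Φ).symm)), fun h => ?_⟩
    rw [← hρ g, show ρ g = 1 from h, map_one]
  · rw [← hρ g]
    show e (Matrix.mulVec (ρ g).1 (e.symm (e x))) = _
    rw [e.symm_apply_apply]
    rfl

end CfsgLib.Quadratic
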