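import Mathlib
import Cfsg.Prelude.Def_Local
import Cfsg.Agent.Lib.Quadratic.Pair
import Cfsg.Agent.Lib.Baer.Basic
import Cfsg.Agent.Lib.Fitting.Basic
import Cfsg.Agent.Lib.Classical.Transvection

/-!
Consequences: two quadratic elements not generating a `p`-group give a section `SL(2, p)`,
a non-abelian Sylow `2`-subgroup, and a group which is not `p`-solvable unless `p = 3`.
-/

set_option autoImplicit false
set_option linter.style.haveILetI false

namespace CfsgLib.Quadratic

open scoped MatrixGroups commutatorElement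

/-- A copy of a group inside the image of a subgroup gives a section. -/
theorem exists_section_of_hom {G Q S : Type*} [Group G] [Group Q] [Group S] (H : Subgroup G)
    (f : H →* Q) (ψ : S →* Q) (hψ : Function.Injective ψ) (hle : ψ.range ≤ f.range) :
    ∃ (K L : Subgroup G) (_ : (L.subgroupOf K).Normal), K ≤ H ∧
      Nonempty (K ⧸ L.subgroupOf K ≃* S) := by
  set K := (ψ.range.comap f).map H.subtype with hK
  have hmem : ∀ x : K, ∃ h : H, (h : G) = x ∧ ∃ s, ψ s = f h := by
    rintro ⟨_, h, ⟨s, hs⟩, rfl⟩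
    exact ⟨h, rfl, s, hs⟩
  choose hh hhe s hs using hmem
  let g : K →* S :=
    { toFun := s
      map_one' := hψ (by
        rw [hs, map_one, show hh 1 = 1 from Subtype.ext (hhe 1), map_one])
      map_mul' := fun x y => hψ (by
        rw [hs, map_mul, hs, hs, ← map_mul]
        congr 1
        exact Subtype.ext (by rw [Subgroup.coe_mul, hhe, hhe, hhe]; rfl)) }
  have hg : Function.Surjective g := fun t => by
    obtain ⟨h, hh'⟩ := hle ⟨t, rfl⟩
    refine ⟨⟨h, h, ⟨t, hh'.symm⟩, rfl⟩, hψ ?_⟩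
    show ψ (s _) = _
    rw [hs]
    exact (congrArg f (Subtype.ext (hhe _))).trans hh'
  have he : (f.ker.map H.subtype).subgroupOf K = g.ker := by
    ext x
    rw [Subgroup.mem_subgroupOf, MonoidHom.mem_ker]
    constructor
    · rintro ⟨h, hk, he⟩
      refine hψ ?_
      rw [map_one]
      show ψ (s x) = 1
      rw [hs, show hh x = h from Subtype.ext ((hhe x).trans he.symm)]
      exact hk
    · intro h1
      refine ⟨hh x, ?_, hhe x⟩
      show f (hh x) = 1
      rw [← hs, show s x = 1 from h1, map_one]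
  have hn : ((f.ker.map H.subtype).subgroupOf K).Normal := he ▸ inferInstance
  exact ⟨K, _, hn, Subgroup.map_subtype_le _,
    ⟨(QuotientGroup.quotientMulEquivOfEq he).trans
      (QuotientGroup.quotientKerEquivOfSurjective g hg)⟩⟩

universe u v

variable {X : Type u} [Group X] {p : ℕ} [hp : Fact p.Prime] {V : Type v} [AddCommGroup V]

omit hp in
theorem pow_eq_one_of_quadratic (hV : ∀ v : V, p • v = 0) (φ : X →* AddMonoid.End V) {a : X}
    (ha : (φ a - 1) * (φ a - 1) = 0) : φ a ^ p = 1 := by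
  set N := φ a - 1 with hN
  have h1 : ∀ j : ℕ, φ a ^ j = 1 + j • N := by
    intro j
    induction j with
    | zero => simp
    | succ j ih =>
      rw [pow_succ, ih, show φ a = 1 + N by rw [hN]; abel, add_mul, one_mul, smul_mul_assoc,
        mul_add, mul_one, ha, add_zero, succ_nsmul]
      abel
  rw [h1]
  refine AddMonoidHom.ext fun v => ?_
  show v + (p • N) v = v
  rw [show (p • N) v = p • N v from rfl, hV, add_zero]

omit hp in
theorem isPGroup_of_image {N : Subgroup X} (φ : X →* AddMonoid.End V) (hφ : Function.Injective φ)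
    (h : ∀ x ∈ N, ∃ k, φ x ^ p ^ k = 1) : IsPGroup p N := fun x => by
  obtain ⟨k, hk⟩ := h x x.2
  exact ⟨k, Subtype.ext (hφ (by rw [Subgroup.coe_pow, map_pow, hk]; exact (map_one φ).symm))⟩

/-- The image of a transvection pair has several Sylow `p`-subgroups. -/
theorem one_lt_card_sylow_range {F : Type*} [Field F] [Fintype F] [CharP F p] {Y : Type*} [Group Y]
    (ρ : Y →* SL(2, F)) {a b : Y} {lam : F} (hlam : lam ≠ 0) (hρa : ρ a = SL2.up lam)
    (hρb : ρ b = SL2.lo 1) : 1 < Nat.card (Sylow p ρ.range) := by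
  rw [Finite.one_lt_card_iff_nontrivial, ← not_subsingleton_iff_nontrivial]
  intro hs
  obtain ⟨P⟩ : Nonempty (Sylow p ρ.range) := inferInstance
  have hall : ∀ y : ρ.range, y ^ p = 1 → y ∈ (P : Subgroup ρ.range) := by
    intro y hy
    have hpz : IsPGroup p (Subgroup.zpowers y) := by
      rintro ⟨w, hw⟩
      obtain ⟨i, rfl⟩ := Subgroup.mem_zpowers_iff.mp hw
      refine ⟨1, Subtype.ext (?_ : (y ^ i) ^ p ^ 1 = 1)⟩
      rw [pow_one, ← zpow_natCast, ← zpow_mul, mul_comm, zpow_mul, zpow_natCast, hy, one_zpow]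
    obtain ⟨Q, hQ⟩ := hpz.exists_le_sylow
    exact Subsingleton.elim P Q ▸ hQ (Subgroup.mem_zpowers y)
  let A : ρ.range := ⟨SL2.up lam, a, hρa⟩
  let B : ρ.range := ⟨SL2.lo 1, b, hρb⟩
  have hA : A ^ p = 1 := Subtype.ext (SL2.up_pow lam)
  have hB : B ^ p = 1 := Subtype.ext (show (SL2.lo (1 : F)) ^ p = 1 by
    have h : ∀ n : ℕ, (SL2.lo (1 : F)) ^ n = SL2.lo (n : F) := by
      intro n
      induction n with
      | zero => simp [SL2.lo]
      | succ n ih =>
        rw [pow_succ, ih, Nat.cast_succ, SL2.lo, SL2.lo, SL2.lo,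
          Matrix.SpecialLinearGroup.transvection_add]
    rw [h, CharP.cast_eq_zero]
    simp [SL2.lo])
  obtain ⟨Q, hQ⟩ := (P.2.map ρ.range.subtype).exists_le_sylow
  obtain ⟨k, hk⟩ := SL2.exists_conj_upperSL p Q
  obtain ⟨_, ⟨r, rfl⟩, hr⟩ := hk.le (hQ ⟨A, hall A hA, rfl⟩)
  obtain ⟨_, ⟨s, rfl⟩, hs⟩ := hk.le (hQ ⟨B, hall B hB, rfl⟩)
  have hcomm : SL2.up lam * SL2.lo 1 = SL2.lo 1 * SL2.up lam := by
    have h1 : SL2.upperHom r * SL2.upperHom s = SL2.upperHom s * SL2.upperHom r := by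
      rw [← map_mul, ← map_mul, mul_comm]
    show (A : SL(2, F)) * (B : SL(2, F)) = (B : SL(2, F)) * (A : SL(2, F))
    rw [show (A : SL(2, F)) = _ from hr.symm, show (B : SL(2, F)) = _ from hs.symm]
    exact ((map_mul _ _ _).symm.trans (congrArg _ h1)).trans (map_mul _ _ _)
  have h00 := congrArg (fun z : SL(2, F) => z.1 0 0) hcomm
  simp only [SL2.mul_entry, SL2.up_coe, SL2.lo_coe] at h00
  simp at h00
  exact hlam h00

/-- The image in `SL(2, F)` of two quadratic generators contains a copy of `SL(2, p)`. -/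
theorem exists_image_sl2 [Finite X] [Finite V] (hp2 : p ≠ 2) (hV : ∀ v : V, p • v = 0)
    (φ : X →* AddMonoid.End V) {a b : X} (hgen : Subgroup.closure ({a, b} : Set X) = ⊤)
    (ha : (φ a - 1) * (φ a - 1) = 0) (hb : (φ b - 1) * (φ b - 1) = 0)
    (N : Subgroup X) (hN : ¬ ∀ x ∈ N, ∃ k, φ x ^ p ^ k = 1) :
    ∃ (F : Type v) (_ : Field F) (_ : Fintype F) (_ : CharP F p) (lam : F) (ρ : X →* SL(2, F))
      (ψ : SL(2, ZMod p) →* SL(2, F)),
      lam ≠ 0 ∧ ρ a = SL2.up lam ∧ ρ b = SL2.lo 1 ∧ (∃ x ∈ N, ρ x ≠ 1) ∧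
      Function.Injective ψ ∧ ψ.range ≤ ρ.range := by
  obtain ⟨W, i1, i2, θ, hW, hirr, ⟨x, hx, hxne⟩, hquad, -⟩ :=
    exists_irreducible_factor N _ V rfl hV φ hN
  obtain ⟨F, i3, i4, i5, lam, hlam, -, ρ, hρa, hρb, hρ, -⟩ :=
    exists_sl2_of_irreducible hW θ hirr hgen (hquad a ha) (hquad b hb) ⟨x, hxne⟩
  have hsyl := one_lt_card_sylow_range ρ hlam hρa hρb
  obtain ⟨ψ, hψ, hψr⟩ := SL2.exists_sl2_zmod hp2 ρ.range hsyl
  exact ⟨F, i3, i4, i5, lam, ρ, ψ, hlam, hρa, hρb, ⟨x, hx, fun h => hxne ((hρ x).mpr h)⟩, hψ, hψr⟩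

/-- `SL(2, p)` has no abelian Sylow `2`-subgroup. -/
theorem not_isMulCommutative_sylow_two_zmod (hp2 : p ≠ 2) (S : Sylow 2 SL(2, ZMod p)) :
    ¬ IsMulCommutative S := by
  intro hc
  have hodd : Odd (Nat.card (ZMod p)) := by
    rw [Nat.card_zmod]
    exact hp.out.odd_of_ne_two hp2
  obtain ⟨k, hk, ⟨e⟩⟩ := SL2.sylow_two_quaternion hodd S
  have h := congrArg e (mul_comm' (e.symm (QuaternionGroup.a 1)) (e.symm (QuaternionGroup.xa 0)))
  rw [map_mul, map_mul, e.apply_symm_apply, e.apply_symm_apply, QuaternionGroup.a_mul_xa,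
    QuaternionGroup.xa_mul_a, zero_sub, zero_add, QuaternionGroup.xa.injEq] at h
  haveI : Fact (2 < 2 * 2 ^ k) := ⟨by
    have : 2 ≤ 2 ^ k := Nat.le_self_pow (by omega) 2
    omega⟩
  exact ZMod.neg_one_ne_one h

/-- Two quadratic generators of a non-`p`-group: the Sylow `2`-subgroups are non-abelian. -/
theorem sylow_two_not_commutative [Finite X] [Finite V] (hp2 : p ≠ 2) (hV : ∀ v : V, p • v = 0)
    (φ : X →* AddMonoid.End V) (hφ : Function.Injective φ) {a b : X}
    (hgen : Subgroup.closure ({a, b} : Set X) = ⊤)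
    (ha : (φ a - 1) * (φ a - 1) = 0) (hb : (φ b - 1) * (φ b - 1) = 0)
    (hnp : ¬ IsPGroup p X) (T : Sylow 2 X) : ¬ IsMulCommutative T := by
  intro hT
  obtain ⟨F, i3, i4, i5, lam, ρ, ψ, -, -, -, -, hψ, hψr⟩ := exists_image_sl2 hp2 hV φ hgen ha hb ⊤
    fun h => hnp fun x => by
      obtain ⟨k, hk⟩ := h x (Subgroup.mem_top x)
      exact ⟨k, hφ (by rw [map_pow, hk, map_one])⟩
  obtain ⟨S⟩ : Nonempty (Sylow 2 SL(2, ZMod p)) := inferInstance
  let ψ' : SL(2, ZMod p) →* ρ.range := ψ.codRestrict ρ.range fun x => hψr ⟨x, rfl⟩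
  have hψ' : Function.Injective ψ' := fun x y h => hψ (congrArg Subtype.val h)
  obtain ⟨Q, hQ⟩ := (S.2.map ψ').exists_le_sylow
  let T' : Sylow 2 ρ.range := T.mapSurjective ρ.rangeRestrict_surjective
  obtain ⟨g, hg⟩ := MulAction.exists_smul_eq ρ.range T' Q
  have hTc : ∀ x ∈ (T : Subgroup X), ∀ y ∈ (T : Subgroup X), Commute x y := fun x hx y hy =>
    congrArg Subtype.val (mul_comm' (⟨x, hx⟩ : T) ⟨y, hy⟩)
  have hQc : ∀ u ∈ (Q : Subgroup ρ.range), ∀ w ∈ (Q : Subgroup ρ.range), u * w = w * u := by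
    rw [← hg]
    rintro _ ⟨_, ⟨x, hx, rfl⟩, rfl⟩ _ ⟨_, ⟨y, hy, rfl⟩, rfl⟩
    exact (((hTc x hx y hy).map ρ.rangeRestrict).map _).eq
  exact not_isMulCommutative_sylow_two_zmod hp2 S ⟨⟨fun x y => Subtype.ext (hψ' (by
    rw [Subgroup.coe_mul, Subgroup.coe_mul, map_mul, map_mul]
    exact hQc _ (hQ ⟨x, x.2, rfl⟩) _ (hQ ⟨y, y.2, rfl⟩)))⟩⟩

/-- For `p ≥ 5`, `SL(2, p)` is not `p`-solvable. -/
theorem not_isPSolvable_sl2 (hp5 : 5 ≤ p) : ¬ Cfsg.IsPSolvable p SL(2, ZMod p) := by
  rintro ⟨n, H, h0, hn, hmono, hnorm, hidx⟩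
  haveI : Nontrivial SL(2, ZMod p) := ⟨SL2.up 1, 1, fun h => by
    simpa [SL2.up_coe] using congrArg (fun z : SL(2, ZMod p) => z.1 0 1) h⟩
  have hne : (⊥ : Subgroup SL(2, ZMod p)) ≠ ⊤ := bot_ne_top
  have hperf : commutator SL(2, ZMod p) = ⊤ := by
    refine Classical.commutator_SL_eq_top (Or.inr ⟨2, ?_, ?_⟩)
    · have : ((2 : ℕ) : ZMod p) ≠ 0 := fun h => by
        rw [ZMod.natCast_eq_zero_iff] at h
        exact absurd (Nat.le_of_dvd two_pos h) (by omega)
      exact_mod_cast this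
    · intro h
      have h3 : ((3 : ℕ) : ZMod p) = 0 := by
        push_cast
        linear_combination h
      rw [ZMod.natCast_eq_zero_iff] at h3
      exact absurd (Nat.le_of_dvd (by norm_num) h3) (by omega)
  suffices hall : ∀ i, H i = ⊤ by exact hne (h0.symm.trans (hall 0))
  intro i
  induction i using Fin.reverseInduction with
  | last => exact hn
  | cast j ih =>
    set L := H j.castSucc
    haveI : L.Normal := hnorm _
    have h := hidx j
    rw [ih, Subgroup.relIndex_top_right] at h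
    rcases h with ⟨m, hm⟩ | hco
    · have hQp : IsPGroup p (SL(2, ZMod p) ⧸ L) := IsPGroup.of_card (n := m)
        (by rw [← Subgroup.index_eq_card, hm])
      by_contra hL
      haveI : Group.IsNilpotent (SL(2, ZMod p) ⧸ L) := hQp.isNilpotent
      haveI : Nontrivial (SL(2, ZMod p) ⧸ L) := by
        rw [← Finite.one_lt_card_iff_nontrivial, ← Subgroup.index_eq_card]
        exact Subgroup.one_lt_index_of_ne_top hL
      have h2 : commutator (SL(2, ZMod p) ⧸ L) = ⊤ := by
        rw [commutator_def, ← Subgroup.map_top_of_surjective (QuotientGroup.mk' L)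
          (QuotientGroup.mk'_surjective L), ← Subgroup.map_commutator, ← commutator_def, hperf]
      exact (Group.IsSolvable.commutator_lt_top_of_nontrivial (SL(2, ZMod p) ⧸ L)).ne h2
    · refine eq_top_iff.mpr fun x _ => ?_
      refine Matrix.SL2.transvection_induction (fun x => x ∈ L) (fun i j hij c => ?_)
        (fun _ _ => mul_mem) x
      set t := Matrix.SpecialLinearGroup.transvection hij c
      have htp : t ^ p = 1 := by
        have hpw : ∀ n : ℕ, t ^ n = Matrix.SpecialLinearGroup.transvection hij ((n : ZMod p) * c) := by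
          intro n
          induction n with
          | zero => simp
          | succ n ih =>
            rw [pow_succ, ih, Nat.cast_succ, add_mul, one_mul,
              Matrix.SpecialLinearGroup.transvection_add]
        rw [hpw, ZMod.natCast_self, zero_mul]
        simp
      rw [← QuotientGroup.eq_one_iff, ← orderOf_eq_one_iff]
      refine Nat.eq_one_of_dvd_coprimes hco ?_ ?_
      · rw [Subgroup.index_eq_card]; exact orderOf_dvd_natCard _
      · refine orderOf_dvd_of_pow_eq_one ?_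
        rw [← QuotientGroup.mk_pow, htp]
        rfl

end CfsgLib.Quadratic
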