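import Mathlib
import Cfsg.Prelude.Def_PLocal
import Cfsg.Agent.Lib.Quadratic.Section
import Cfsg.Agent.Lib.PSolvable.Core
import Cfsg.Agent.Lib.Offender.Basic

/-!
Quadratic action on a normalised elementary abelian subgroup.
-/

set_option autoImplicit false
set_option linter.style.haveILetI false

namespace CfsgLib.Quadratic

open scoped MatrixGroups commutatorElement IsMulCommutative

universe u v

variable {X : Type u} [Group X] {p : ℕ} [hp : Fact p.Prime] {V : Type v} [AddCommGroup V]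
  [Finite V]

omit hp [Finite V] in
theorem isPGroup_zpowers_of_quadratic (hV : ∀ v : V, p • v = 0) (φ : X →* AddMonoid.End V)
    (hφ : Function.Injective φ) {a : X} (ha : (φ a - 1) * (φ a - 1) = 0) :
    IsPGroup p (Subgroup.zpowers a) :=
  isPGroup_of_image φ hφ fun x hx => by
    obtain ⟨i, rfl⟩ := Subgroup.mem_zpowers_iff.mp hx
    have h : a ^ p = 1 := hφ (by rw [map_pow, pow_eq_one_of_quadratic hV φ ha, map_one])
    exact ⟨1, by rw [pow_one, ← map_pow, ← zpow_natCast, ← zpow_mul, mul_comm, zpow_mul,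
      zpow_natCast, h, one_zpow, map_one]⟩

omit hp [Finite V] in
theorem conj_quadratic (φ : X →* AddMonoid.End V) {a : X} (ha : (φ a - 1) * (φ a - 1) = 0)
    (g : X) : (φ (g * a * g⁻¹) - 1) * (φ (g * a * g⁻¹) - 1) = 0 := by
  have h1 : φ g * φ g⁻¹ = 1 := by rw [← map_mul, mul_inv_cancel, map_one]
  have h2 : φ g⁻¹ * φ g = 1 := by rw [← map_mul, inv_mul_cancel, map_one]
  have e : φ (g * a * g⁻¹) - 1 = φ g * (φ a - 1) * φ g⁻¹ := by
    rw [map_mul, map_mul, mul_sub, sub_mul, mul_one, h1]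
  rw [e, show φ g * (φ a - 1) * φ g⁻¹ * (φ g * (φ a - 1) * φ g⁻¹)
    = φ g * ((φ a - 1) * (φ g⁻¹ * φ g) * (φ a - 1)) * φ g⁻¹ by simp only [mul_assoc],
    h2, mul_one, ha, mul_zero, zero_mul]

omit [Finite V] in
/-- A quadratic element outside `O_p` lies, with a conjugate, in a two-generated subgroup that is
not a `p`-group. -/
theorem exists_pair [Finite X] (hV : ∀ v : V, p • v = 0) (φ : X →* AddMonoid.End V)
    (hφ : Function.Injective φ) {a : X} (ha : (φ a - 1) * (φ a - 1) = 0)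
    (hna : a ∉ Cfsg.pCore p X) :
    ∃ (H : Subgroup X) (x y : H), Subgroup.closure ({x, y} : Set H) = ⊤ ∧
      ((φ.comp H.subtype) x - 1) * ((φ.comp H.subtype) x - 1) = 0 ∧
      ((φ.comp H.subtype) y - 1) * ((φ.comp H.subtype) y - 1) = 0 ∧ ¬ IsPGroup p H := by
  obtain ⟨g, hg⟩ := Baer.exists_conj_not_isPGroup (isPGroup_zpowers_of_quadratic hV φ hφ ha)
    (fun N hN hNp haN => hna (Fitting.le_pCore hN hNp haN))
  refine ⟨Subgroup.closure ({a, g * a * g⁻¹} : Set X),
    ⟨a, Subgroup.subset_closure (Set.mem_insert _ _)⟩,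
    ⟨g * a * g⁻¹, Subgroup.subset_closure (Set.mem_insert_of_mem _ (Set.mem_singleton _))⟩, ?_, ha,
    conj_quadratic φ ha g, hg⟩
  apply Subgroup.map_injective (Subgroup.subtype_injective _)
  rw [MonoidHom.map_closure, ← MonoidHom.range_eq_map, Subgroup.range_subtype, Set.image_pair]
  rfl

/-- `S0595` abstractly. -/
theorem sylow_two_not_commutative_of_not_mem_pCore [Finite X] (hp2 : p ≠ 2)
    (hV : ∀ v : V, p • v = 0) (φ : X →* AddMonoid.End V) (hφ : Function.Injective φ) {a : X}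
    (ha : (φ a - 1) * (φ a - 1) = 0) (hna : a ∉ Cfsg.pCore p X) (T : Sylow 2 X) :
    ¬ IsMulCommutative T := by
  intro hT
  obtain ⟨H, x, y, hgen, hx, hy, hnp⟩ := exists_pair hV φ hφ ha hna
  obtain ⟨S⟩ : Nonempty (Sylow 2 H) := inferInstance
  refine sylow_two_not_commutative hp2 hV (φ.comp H.subtype) (hφ.comp H.subtype_injective) hgen
    hx hy hnp S ?_
  obtain ⟨Q, hQ⟩ := (S.2.map H.subtype).exists_le_sylow
  obtain ⟨g, hg⟩ := MulAction.exists_smul_eq X T Q
  have hTc : ∀ x ∈ (T : Subgroup X), ∀ y ∈ (T : Subgroup X), Commute x y := fun x hx y hy =>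
    congrArg Subtype.val (mul_comm' (⟨x, hx⟩ : T) ⟨y, hy⟩)
  have hQc : ∀ u ∈ (Q : Subgroup X), ∀ w ∈ (Q : Subgroup X), u * w = w * u := by
    rw [← hg]
    rintro _ ⟨u, hu, rfl⟩ _ ⟨w, hw, rfl⟩
    exact ((hTc u hu w hw).map _).eq
  exact ⟨⟨fun u w => Subtype.ext (H.subtype_injective (by
    rw [Subgroup.coe_mul, Subgroup.coe_mul, map_mul, map_mul]
    exact hQc _ (hQ ⟨u, u.2, rfl⟩) _ (hQ ⟨w, w.2, rfl⟩)))⟩⟩

/-- A `p`-solvable group acts `p`-stably for `p ≥ 5`. -/
theorem mem_pCore_of_isPSolvable [Finite X] (hp5 : 5 ≤ p) (hs : Cfsg.IsPSolvable p X)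
    (hV : ∀ v : V, p • v = 0) (φ : X →* AddMonoid.End V) (hφ : Function.Injective φ) {a : X}
    (ha : (φ a - 1) * (φ a - 1) = 0) : a ∈ Cfsg.pCore p X := by
  by_contra hna
  obtain ⟨H, x, y, hgen, hx, hy, hnp⟩ := exists_pair hV φ hφ ha hna
  obtain ⟨F, i1, i2, i3, lam, ρ, ψ, -, -, -, -, hψ, hψr⟩ :=
    exists_image_sl2 (by omega) hV (φ.comp H.subtype) hgen hx hy ⊤ fun h => hnp fun z => by
      obtain ⟨k, hk⟩ := h z (Subgroup.mem_top z)
      exact ⟨k, (hφ.comp H.subtype_injective) (by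
        show (φ.comp H.subtype) (z ^ p ^ k) = (φ.comp H.subtype) 1
        rw [map_pow, hk, map_one])⟩
  have hR : Cfsg.IsPSolvable p ρ.range := PSolvable.isPSolvable_of_surjective ρ.rangeRestrict
    ρ.rangeRestrict_surjective (PSolvable.isPSolvable_subgroup H hs)
  exact not_isPSolvable_sl2 hp5 (PSolvable.isPSolvable_of_injective
    (ψ.codRestrict ρ.range fun z => hψr ⟨z, rfl⟩) (fun u w h => hψ (congrArg Subtype.val h)) hR)

/-! ### Conjugation on a normalised subgroup -/

variable {G : Type u} [Group G]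

/-- The action of `H ≤ N(V)` on `V` as endomorphisms. -/
def act (V H : Subgroup G) [IsMulCommutative V] (hHV : H ≤ Subgroup.normalizer (V : Set G)) :
    H →* AddMonoid.End (Additive V) where
  toFun g :=
    { toFun := fun v => Additive.ofMul (⟨(g : G) * (v.toMul : V) * (g : G)⁻¹,
        (Subgroup.mem_normalizer_iff.mp (hHV g.2) _).mp (v.toMul : V).2⟩ : V)
      map_zero' := by
        apply Additive.toMul.injective
        apply Subtype.ext
        simp
      map_add' := fun v w => by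
        apply Additive.toMul.injective
        apply Subtype.ext
        simp [mul_assoc] }
  map_one' := AddMonoidHom.ext fun v => by
    apply Additive.toMul.injective
    apply Subtype.ext
    show ((1 : H) : G) * ((v.toMul : V) : G) * ((1 : H) : G)⁻¹ = ((v.toMul : V) : G)
    simp
  map_mul' g h := AddMonoidHom.ext fun v => by
    apply Additive.toMul.injective
    apply Subtype.ext
    show ((g * h : H) : G) * ((v.toMul : V) : G) * ((g * h : H) : G)⁻¹ =
      (g : G) * ((h : G) * ((v.toMul : V) : G) * (h : G)⁻¹) * (g : G)⁻¹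
    rw [Subgroup.coe_mul]
    group

theorem act_apply (V H : Subgroup G) [IsMulCommutative V]
    (hHV : H ≤ Subgroup.normalizer (V : Set G)) (g : H) (v : Additive V) :
    (((act V H hHV g v).toMul : V) : G) = (g : G) * ((v.toMul : V) : G) * (g : G)⁻¹ := rfl

omit hp in
theorem act_nsmul {V : Subgroup G} [IsMulCommutative V] (hV : Cfsg.IsElementaryAbelian p V) :
    ∀ v : Additive V, p • v = 0 := fun v => by
  apply Additive.toMul.injective
  apply Subtype.ext
  show ((v.toMul : V) : G) ^ p = 1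
  exact hV.2 _ (v.toMul : V).2

theorem act_eq_one_iff (V H : Subgroup G) [IsMulCommutative V]
    (hHV : H ≤ Subgroup.normalizer (V : Set G)) (g : H) :
    act V H hHV g = 1 ↔ (g : G) ∈ Subgroup.centralizer (V : Set G) := by
  constructor
  · intro h x hx
    have h1 : (g : G) * x * (g : G)⁻¹ = x := congrArg (fun v : Additive V => ((v.toMul : V) : G))
      (DFunLike.congr_fun h (Additive.ofMul (⟨x, hx⟩ : V)))
    exact (mul_inv_eq_iff_eq_mul.mp h1).symm
  · intro h
    refine AddMonoidHom.ext fun v => ?_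
    apply Additive.toMul.injective
    apply Subtype.ext
    show (g : G) * ((v.toMul : V) : G) * (g : G)⁻¹ = ((v.toMul : V) : G)
    rw [mul_inv_eq_iff_eq_mul]
    exact (h _ (v.toMul : V).2).symm

theorem act_injective (V H : Subgroup G) [IsMulCommutative V]
    (hHV : H ≤ Subgroup.normalizer (V : Set G))
    (hf : H ⊓ Subgroup.centralizer (V : Set G) = ⊥) : Function.Injective (act V H hHV) :=
  (injective_iff_map_eq_one _).mpr fun g hg => Subtype.ext
    ((Subgroup.eq_bot_iff_forall _).mp hf _ ⟨g.2, (act_eq_one_iff V H hHV g).mp hg⟩)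

theorem act_quadratic (V H : Subgroup G) [IsMulCommutative V]
    (hHV : H ≤ Subgroup.normalizer (V : Set G)) {a : H}
    (hq : ⁅⁅V, Subgroup.zpowers (a : G)⁆, Subgroup.zpowers (a : G)⁆ = ⊥) :
    (act V H hHV a - 1) * (act V H hHV a - 1) = 0 := by
  refine AddMonoidHom.ext fun v => ?_
  set x : V := v.toMul with hx
  have h1 : ⁅⁅(x : G), (a : G)⁆, (a : G)⁆ = 1 := (Subgroup.eq_bot_iff_forall _).mp hq _
    (Subgroup.commutator_mem_commutator (Subgroup.commutator_mem_commutator x.2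
      (Subgroup.mem_zpowers _)) (Subgroup.mem_zpowers _))
  have hc := commutatorElement_eq_one_iff_commute.mp h1
  have ha : ∀ y ∈ V, (a : G) * y * (a : G)⁻¹ ∈ V := fun y hy =>
    (Subgroup.mem_normalizer_iff.mp (hHV a.2) y).mp hy
  set w := act V H hHV a v - v with hw
  have hwG : ((w.toMul : V) : G) = (⁅(x : G), (a : G)⁆)⁻¹ := by
    rw [hw, toMul_sub, Subgroup.coe_div, div_eq_mul_inv, act_apply, ← hx]
    rw [commutatorElement_def]
    group
  show act V H hHV a w - w = 0
  rw [sub_eq_zero]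
  apply Additive.toMul.injective
  apply Subtype.ext
  show (a : G) * ((w.toMul : V) : G) * (a : G)⁻¹ = ((w.toMul : V) : G)
  rw [hwG, ← hc.inv_left.eq, mul_inv_cancel_right]

theorem closure_pair_eq_top {a b : G} {H : Subgroup G} (hab : H = Subgroup.closure ({a, b} : Set G))
    (ha : a ∈ H) (hb : b ∈ H) :
    Subgroup.closure ({⟨a, ha⟩, ⟨b, hb⟩} : Set H) = ⊤ := by
  apply Subgroup.map_injective (Subgroup.subtype_injective _)
  rw [MonoidHom.map_closure, ← MonoidHom.range_eq_map, Subgroup.range_subtype, Set.image_pair]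
  exact hab.symm

omit hp in
theorem not_mem_pCore_of_not_mem_map {a : G} {H : Subgroup G} (ha : a ∈ H)
    (h : a ∉ (Cfsg.pCore p H).map H.subtype) : (⟨a, ha⟩ : H) ∉ Cfsg.pCore p H :=
  fun hm => h ⟨_, hm, rfl⟩

/-- A quadratic element outside `O_p(H)` gives a section `SL(2, p)` of `H`. -/
theorem exists_sl2_section [Finite G] (hp2 : p ≠ 2) (W H : Subgroup G)
    (hW : Cfsg.IsElementaryAbelian p W) (hHW : H ≤ Subgroup.normalizer (W : Set G))
    (hf : H ⊓ Subgroup.centralizer (W : Set G) = ⊥) {a : G} (ha : a ∈ H)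
    (hq : ⁅⁅W, Subgroup.zpowers a⁆, Subgroup.zpowers a⁆ = ⊥)
    (hna : (⟨a, ha⟩ : H) ∉ Cfsg.pCore p H) :
    ∃ (K L : Subgroup G) (_ : (L.subgroupOf K).Normal), K ≤ H ∧
      Nonempty (K ⧸ L.subgroupOf K ≃* SL(2, ZMod p)) := by
  haveI := hW.1
  obtain ⟨H₀, x, y, hgen, hx, hy, hnp⟩ := exists_pair (act_nsmul hW) (act W H hHW)
    (act_injective W H hHW hf) (act_quadratic W H hHW (a := ⟨a, ha⟩) hq) hna
  obtain ⟨F, i1, i2, i3, lam, ρ, ψ, -, -, -, -, hψ, hψr⟩ :=
    exists_image_sl2 hp2 (act_nsmul hW) ((act W H hHW).comp H₀.subtype) hgen hx hy ⊤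
      fun h => hnp fun z => by
        obtain ⟨k, hk⟩ := h z (Subgroup.mem_top z)
        exact ⟨k, ((act_injective W H hHW hf).comp H₀.subtype_injective) (by
          show ((act W H hHW).comp H₀.subtype) (z ^ p ^ k) = ((act W H hHW).comp H₀.subtype) 1
          rw [map_pow, hk, map_one])⟩
  let e := H₀.equivMapOfInjective H.subtype H.subtype_injective
  obtain ⟨K, L, hL, hK, hiso⟩ := exists_section_of_hom (H₀.map H.subtype)
    (ρ.comp e.symm.toMonoidHom) ψ hψ (hψr.trans (by
      rintro _ ⟨z, rfl⟩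
      exact ⟨e z, by simp⟩))
  exact ⟨K, L, hL, hK.trans (Subgroup.map_subtype_le H₀), hiso⟩

end CfsgLib.Quadratic
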