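import Mathlib
import Cfsg.Agent.Lib.Quadratic.Groups
import Cfsg.Agent.Lib.ZJ.StableQuadratic
import Cfsg.Agent.Lib.OddOmega.Basic
import Cfsg.Agent.Lib.PSolvable.Omega

/-!
Action `p`-stability from linear `p`-stability of the sections.
-/

set_option autoImplicit false
set_option linter.style.haveILetI false

namespace CfsgLib.Quadratic

open scoped MatrixGroups commutatorElement IsMulCommutative

universe u

variable {p : ℕ} [hp : Fact p.Prime]

/-- Linear `p`-stability: quadratic elements of faithful actions lie in `O_p`. -/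
def LinStable (p : ℕ) (X : Type u) [Group X] : Prop :=
  ∀ (W : Type u) [AddCommGroup W] [Finite W], (∀ w : W, p • w = 0) →
    ∀ φ : X →* AddMonoid.End W, Function.Injective φ → ∀ a : X,
      (φ a - 1) * (φ a - 1) = 0 → a ∈ Cfsg.pCore p X

/-- Every homomorphic image of every subgroup is linearly `p`-stable. -/
def SectionsStable (p : ℕ) (G : Type u) [Group G] : Prop :=
  ∀ (S : Subgroup G) (Q : Type u) [Group Q] [Finite Q] (f : S →* Q),
    Function.Surjective f → LinStable p Q

omit hp in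
theorem SectionsStable.subgroup {G : Type u} [Group G] (h : SectionsStable p G) (H : Subgroup G) :
    SectionsStable p H := fun S Q _ _ f hf => by
  let e := S.equivMapOfInjective H.subtype H.subtype_injective
  exact h (S.map H.subtype) Q (f.comp e.symm.toMonoidHom) (hf.comp e.symm.surjective)

omit hp in
theorem SectionsStable.quotient {G : Type u} [Group G] (h : SectionsStable p G) (N : Subgroup G)
    [N.Normal] : SectionsStable p (G ⧸ N) := fun S Q _ _ f hf => by
  refine h (S.comap (QuotientGroup.mk' N)) Q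
    (f.comp ((QuotientGroup.mk' N).subgroupComap S)) (hf.comp ?_)
  rintro ⟨y, hy⟩
  obtain ⟨x, rfl⟩ := QuotientGroup.mk'_surjective N y
  exact ⟨⟨x, hy⟩, rfl⟩

omit hp in
theorem isPStableOn_of_sectionsStable {G : Type u} [Group G] [Finite G] (h : SectionsStable p G)
    (V : Subgroup G) [hVn : V.Normal] (hV : Cfsg.IsElementaryAbelian p V) :
    Cfsg.IsPStableOn p V := by
  intro a hq
  haveI := hV.1
  set C := Subgroup.centralizer (V : Set G) with hC
  have hle : (⊤ : Subgroup G) ≤ Subgroup.normalizer (V : Set G) :=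
    (Subgroup.normalizer_eq_top V).ge
  let φ₀ : G →* AddMonoid.End (Additive V) :=
    (act V ⊤ hle).comp Subgroup.topEquiv.symm.toMonoidHom
  have hker : ∀ g : G, φ₀ g = 1 ↔ g ∈ C := fun g => act_eq_one_iff V ⊤ hle _
  let φ : G ⧸ C →* AddMonoid.End (Additive V) := QuotientGroup.lift C φ₀ fun g hg => (hker g).mpr hg
  have hinj : Function.Injective φ := (injective_iff_map_eq_one _).mpr fun x hx => by
    obtain ⟨g, rfl⟩ := QuotientGroup.mk'_surjective C x
    exact (QuotientGroup.eq_one_iff g).mpr ((hker g).mp hx)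
  exact h ⊤ (G ⧸ C) ((QuotientGroup.mk' C).comp Subgroup.topEquiv.toMonoidHom)
    (fun y => by
      obtain ⟨x, rfl⟩ := QuotientGroup.mk'_surjective C y
      exact ⟨⟨x, Subgroup.mem_top x⟩, rfl⟩)
    (Additive V) (act_nsmul hV) φ hinj (QuotientGroup.mk a)
    (act_quadratic V ⊤ hle (a := ⟨a, Subgroup.mem_top a⟩) hq)

theorem isElementaryAbelian_map_frattini {G : Type u} [Group G] [Finite G] (U : Subgroup G)
    [U.Normal] (hU : IsPGroup p U) [((frattini ↥U).map U.subtype).Normal] :
    Cfsg.IsElementaryAbelian p (U.map (QuotientGroup.mk' ((frattini ↥U).map U.subtype))) := by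
  refine ⟨⟨⟨?_⟩⟩, ?_⟩
  · rintro ⟨_, x, hx, rfl⟩ ⟨_, y, hy, rfl⟩
    refine Subtype.ext (commutatorElement_eq_one_iff_commute.mp ?_).eq
    show ⁅QuotientGroup.mk' _ x, QuotientGroup.mk' _ y⁆ = 1
    rw [← map_commutatorElement, QuotientGroup.mk'_apply, QuotientGroup.eq_one_iff]
    exact ⟨⁅(⟨x, hx⟩ : U), ⟨y, hy⟩⁆, (PSolvable.commutator_le_frattini hU).1
      (Subgroup.commutator_mem_commutator (Subgroup.mem_top _) (Subgroup.mem_top _)), rfl⟩
  · rintro _ ⟨x, hx, rfl⟩
    rw [← map_pow, QuotientGroup.mk'_apply, QuotientGroup.eq_one_iff]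
    exact ⟨(⟨x, hx⟩ : U) ^ p, (PSolvable.commutator_le_frattini hU).2 _, rfl⟩

omit hp in
theorem isElementaryAbelian_omegaCenterThompson {S : Type u} [Group S] [Finite S] :
    Cfsg.IsElementaryAbelian p (Cfsg.omegaCenterThompson p S) := by
  rw [ZJ.omegaCenterThompson_eq]
  set Z := ZJ.zJ p (⊤ : Subgroup S) with hZ
  have hc : ∀ x ∈ Z, ∀ y ∈ Z, Commute x y := fun x hx y hy => hy.2 x hx.1
  have hle := ZJ.omegaOne_le p Z
  refine ⟨⟨⟨fun x y => Subtype.ext (hc x (hle x.2) y (hle y.2)).eq⟩⟩, fun a ha => ?_⟩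
  refine Subgroup.closure_induction (fun x hx => hx.2) (one_pow p) ?_ ?_ ha
  · intro x y hx hy hxp hyp
    rw [(hc x (hle hx) y (hle hy)).mul_pow, hxp, hyp, one_mul]
  · intro x _ hxp
    rw [inv_pow, hxp, inv_one]

/-- Action `p`-stability. -/
theorem isActionPStable_of_sectionsStable {G : Type u} [Group G] [Finite G]
    (h : SectionsStable p G) : Cfsg.IsActionPStable p G := by
  refine ⟨fun V _ hV => isPStableOn_of_sectionsStable h V hV, ?_, ?_⟩
  · haveI := Fitting.pCore_normal (G := G) p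
    haveI hΦ : ((frattini ↥(Cfsg.pCore p G)).map (Cfsg.pCore p G).subtype).Normal :=
      PSolvable.normal_map_of_characteristic _ _
    set U := Cfsg.pCore p G
    set N := (frattini ↥U).map U.subtype
    intro a hq
    set π := QuotientGroup.mk' N
    haveI hW : (U.map π).Normal := Subgroup.Normal.map inferInstance π (QuotientGroup.mk'_surjective N)
    set C := Subgroup.centralizer ((U.map π : Subgroup (G ⧸ N)) : Set (G ⧸ N)) with hC
    have hq' : ⁅⁅U.map π, Subgroup.zpowers (π a)⁆, Subgroup.zpowers (π a)⁆ = ⊥ := by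
      rw [← MonoidHom.map_zpowers π a, ← Subgroup.map_commutator, ← Subgroup.map_commutator,
        Subgroup.map_eq_bot_iff, QuotientGroup.ker_mk']
      exact hq
    have ha := isPStableOn_of_sectionsStable (h.quotient N) (U.map π)
      (isElementaryAbelian_map_frattini U (Fitting.pCore_isPGroup p)) (π a) hq'
    set f : G →* (G ⧸ N) ⧸ C := (QuotientGroup.mk' C).comp π with hf
    have hker : f.ker = Cfsg.sectionKernel U N := by
      rw [hf, ← MonoidHom.comap_ker, QuotientGroup.ker_mk']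
      rfl
    refine ⟨(Cfsg.pCore p _).comap f, (Fitting.pCore_normal p).comap f,
      hker ▸ Subgroup.ker_le_comap _ _, ?_, ha⟩
    obtain ⟨k, hk⟩ := (Fitting.pCore_isPGroup p (G := (G ⧸ N) ⧸ C)).exists_card_eq
    refine ⟨k, ?_⟩
    have hfs : Function.Surjective f :=
      (QuotientGroup.mk'_surjective C).comp (QuotientGroup.mk'_surjective N)
    rw [← hker, Subgroup.relIndex_ker, ← hk, Subgroup.map_comap_eq_self_of_surjective hfs]
  · intro S V hVn hV
    haveI := hVn
    refine isPStableOn_of_sectionsStable (h.subgroup _) V ?_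
    have hΩ := isElementaryAbelian_omegaCenterThompson (p := p) (S := ↥(S : Subgroup G))
    have hmem : ∀ v ∈ V, ∃ w ∈ Cfsg.omegaCenterThompson p ↥(S : Subgroup G),
        (w : G) = ((v : ↥(Subgroup.normalizer (Cfsg.thompsonSubgroupOf p (S : Subgroup G) : Set G))) : G) := fun v hv => hV ⟨v, hv, rfl⟩
    refine ⟨⟨⟨fun x y => ?_⟩⟩, fun v hv => ?_⟩
    · obtain ⟨w, hw, hwe⟩ := hmem x x.2
      obtain ⟨w', hw', hwe'⟩ := hmem y y.2
      haveI := hΩ.1
      refine Subtype.ext (Subtype.ext ?_)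
      simp only [Subgroup.coe_mul]
      rw [← hwe, ← hwe']
      exact congrArg (fun t : Cfsg.omegaCenterThompson p ↥(S : Subgroup G) => ((t : ↥(S : Subgroup G)) : G))
        (mul_comm' (⟨w, hw⟩ : Cfsg.omegaCenterThompson p ↥(S : Subgroup G)) ⟨w', hw'⟩)
    · obtain ⟨w, hw, hwe⟩ := hmem v hv
      refine Subtype.ext ?_
      show ((v : ↥(Subgroup.normalizer (Cfsg.thompsonSubgroupOf p (S : Subgroup G) : Set G))) : G) ^ p = 1
      rw [← hwe, ← Subgroup.coe_pow, hΩ.2 w hw]
      rfl

open CfsgLib.Transfer in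
/-- Stability on all normal `p`-subgroups. -/
theorem isPStableOn_isPGroup_of_sectionsStable {G : Type u} [Group G] [Finite G]
    (h : SectionsStable p G) (W : Subgroup G) [hWn : W.Normal] (hW : IsPGroup p W) :
    Cfsg.IsPStableOn p W := by
  intro a hq
  haveI hΦ : ((frattini ↥W).map W.subtype).Normal := PSolvable.normal_map_of_characteristic _ _
  set N := (frattini ↥W).map W.subtype with hN
  set π := QuotientGroup.mk' N
  haveI : (W.map π).Normal := Subgroup.Normal.map hWn π (QuotientGroup.mk'_surjective N)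
  have hq' : ⁅⁅W.map π, Subgroup.zpowers (π a)⁆, Subgroup.zpowers (π a)⁆ = ⊥ := by
    rw [← MonoidHom.map_zpowers π a, ← Subgroup.map_commutator, ← Subgroup.map_commutator, hq,
      Subgroup.map_bot]
  have ha := isPStableOn_of_sectionsStable (h.quotient N) (W.map π)
    (isElementaryAbelian_map_frattini W hW) (π a) hq'
  haveI := ZJ.opMod_normal p (W.map π)
  set D := (ZJ.opMod p (W.map π)).comap π with hD
  haveI : D.Normal := Subgroup.Normal.comap inferInstance π
  refine ZJ.mem_opMod.mp (ZJ.le_opMod W D (fun d hd => ?_) (show a ∈ D from ha))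
  obtain ⟨k, hk⟩ := ZJ.exists_pow_mem_centralizer (W.map π) (show π d ∈ ZJ.opMod p (W.map π) from hd)
  obtain ⟨i, m, -, -, hco, -⟩ := exists_pow_coprime_part (p := p) (d ^ p ^ k)
  refine ⟨k + i, ?_⟩
  rw [pow_add, pow_mul]
  set x := (d ^ p ^ k) ^ p ^ i
  have hx : π x ∈ Subgroup.centralizer ((W.map π : Subgroup (G ⧸ N)) : Set (G ⧸ N)) := by
    rw [map_pow, map_pow]
    exact pow_mem hk _
  have hcop : (Nat.card (Subgroup.zpowers x)).Coprime (Nat.card (frattini ↥W)) := by
    obtain ⟨j, hj⟩ := (hW.to_subgroup (frattini ↥W)).exists_card_eq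
    rw [Nat.card_zpowers, hj]
    exact hco.pow_right j
  refine Coprime.le_centralizer_of_frattini Subgroup.le_normalizer_of_normal hcop
    (fun b hb y hy => ?_) (Subgroup.mem_zpowers x)
  have hb' : π b ∈ Subgroup.centralizer ((W.map π : Subgroup (G ⧸ N)) : Set (G ⧸ N)) := by
    obtain ⟨j, rfl⟩ := Subgroup.mem_zpowers_iff.mp hb
    rw [map_zpow]
    exact zpow_mem hx j
  rw [← QuotientGroup.eq_one_iff]
  show π (b * y * b⁻¹ * y⁻¹) = 1
  rw [map_mul, map_mul, map_mul, map_inv,
    map_inv, show π b * π y = π y * π b from (hb' (π y) ⟨y, hy, rfl⟩).symm]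
  group

theorem stableAt_of_sectionsStable {G : Type u} [Group G] [Finite G] (h : SectionsStable p G)
    (S : Subgroup G) : ZJ.StableAt p S :=
  fun W _ hW a _ hq => isPStableOn_isPGroup_of_sectionsStable h W hW a hq

/-- `p`-solvable groups, `p ≥ 5`. -/
theorem sectionsStable_of_isPSolvable {G : Type u} [Group G] [Finite G] (hp5 : 5 ≤ p)
    (h : Cfsg.IsPSolvable p G) : SectionsStable p G := by
  intro S Q _ _ f hf W _ _ hW φ hφ a ha
  exact mem_pCore_of_isPSolvable hp5
    (PSolvable.isPSolvable_of_surjective f hf (PSolvable.isPSolvable_subgroup S h)) hW φ hφ ha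

theorem sectionsStable_of_abelian_sylow_two {G : Type u} [Group G] [Finite G] (hp2 : p ≠ 2)
    (hab : ∀ T : Sylow 2 G, IsMulCommutative T) : SectionsStable p G := by
  intro S Q _ _ f hf W _ _ hW φ hφ a ha
  by_contra hna
  obtain ⟨T⟩ : Nonempty (Sylow 2 S) := inferInstance
  obtain ⟨T', hT'⟩ := (T.2.map S.subtype).exists_le_sylow
  haveI := hab T'
  refine sylow_two_not_commutative_of_not_mem_pCore hp2 hW φ hφ ha hna
    (T.mapSurjective hf) ⟨⟨?_⟩⟩
  rintro ⟨_, x, hx, rfl⟩ ⟨_, y, hy, rfl⟩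
  refine Subtype.ext ?_
  show f x * f y = f y * f x
  rw [← map_mul, ← map_mul]
  congr 1
  exact Subtype.ext (congrArg Subtype.val (mul_comm'
    (⟨(x : G), hT' ⟨x, hx, rfl⟩⟩ : T') ⟨(y : G), hT' ⟨y, hy, rfl⟩⟩) :)

/-- Groups of odd order. -/
theorem sectionsStable_of_odd {G : Type u} [Group G] [Finite G] (hp2 : p ≠ 2)
    (hodd : Odd (Nat.card G)) : SectionsStable p G := by
  refine sectionsStable_of_abelian_sylow_two hp2 fun T => ?_
  have h : (T : Subgroup G) = ⊥ := by
    obtain ⟨k, hk⟩ := T.2.exists_card_eq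
    rcases Nat.eq_zero_or_pos k with rfl | hk0
    · exact Subgroup.card_eq_one.mp hk
    · have h2 : 2 ∣ Nat.card G :=
        ((hk ▸ dvd_pow_self 2 hk0.ne' : 2 ∣ Nat.card T)).trans (Subgroup.card_subgroup_dvd_card _)
      exact absurd hodd (Nat.not_odd_iff_even.mpr (even_iff_two_dvd.mpr h2))
  refine ⟨⟨fun x y => ?_⟩⟩
  have hx : x = 1 := Subtype.ext (Subgroup.mem_bot.mp (h ▸ x.2))
  rw [hx, one_mul, mul_one]

end CfsgLib.Quadratic
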