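import Cfsg.Agent.Lib.Quadratic.Groups
import Cfsg.Agent.Lib.SL2.MaxClass
import Cfsg.Agent.S1073
import Cfsg.Agent.Lib.Ree.Instance

/-!
No non-trivial quadratic action of `PSL(2, q)`, `q` odd, nor of the small Ree groups.
-/

set_option autoImplicit false
set_option linter.unusedSectionVars false

namespace CfsgLib.Quadratic

open Matrix
open scoped MatrixGroups

universe u v

/-- Any two elements that do not square to one commute. -/
def SqComm {X : Type*} [Group X] (T : Subgroup X) : Prop :=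
  ∀ a ∈ T, ∀ b ∈ T, a * a ≠ 1 → b * b ≠ 1 → a * b = b * a

theorem sqComm_map {X Y : Type*} [Group X] [Group Y] (f : X →* Y) {T : Subgroup X} (hT : SqComm T) :
    SqComm (T.map f) := by
  rintro _ ⟨u, hu, rfl⟩ _ ⟨w, hw, rfl⟩ hu2 hw2
  rw [← map_mul, ← map_mul]
  refine congrArg f (hT u hu w hw (fun h => hu2 ?_) (fun h => hw2 ?_))
  · rw [← map_mul, h, map_one]
  · rw [← map_mul, h, map_one]

theorem not_quadratic_of_sqComm {X : Type u} [Group X] [Finite X] {p : ℕ} [Fact p.Prime] (hp2 : p ≠ 2)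
    {V : Type v} [AddCommGroup V] [Finite V] (hV : ∀ v : V, p • v = 0)
    (φ : X →* AddMonoid.End V) (hφ : Function.Injective φ) {a : X}
    (ha : (φ a - 1) * (φ a - 1) = 0) (hna : a ∉ Cfsg.pCore p X) (T : Sylow 2 X)
    (hT : SqComm (T : Subgroup X)) : False := by
  obtain ⟨H, x, y, hgen, hx, hy, hnp⟩ := exists_pair hV φ hφ ha hna
  obtain ⟨F, i1, i2, i3, lam, ρ, ψ, -, -, -, -, hψ, hψr⟩ :=
    exists_image_sl2 hp2 hV (φ.comp H.subtype) hgen hx hy ⊤ fun h => hnp fun z => by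
      obtain ⟨k, hk⟩ := h z (Subgroup.mem_top z)
      exact ⟨k, (hφ.comp H.subtype_injective) (by
        show (φ.comp H.subtype) (z ^ p ^ k) = (φ.comp H.subtype) 1
        rw [map_pow, hk, map_one])⟩
  obtain ⟨TH⟩ : Nonempty (Sylow 2 H) := inferInstance
  have hTH : SqComm (TH : Subgroup H) := by
    obtain ⟨Q, hQ⟩ := (TH.2.map H.subtype).exists_le_sylow
    obtain ⟨g, hg⟩ := MulAction.exists_smul_eq X T Q
    have hQc : SqComm (Q : Subgroup X) := by
      rw [← hg]
      exact sqComm_map _ hT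
    intro u hu w hw hu2 hw2
    refine H.subtype_injective ?_
    rw [map_mul, map_mul]
    exact hQc _ (hQ ⟨u, hu, rfl⟩) _ (hQ ⟨w, hw, rfl⟩)
      (fun h => hu2 (H.subtype_injective (by rw [map_mul, map_one]; exact h)))
      (fun h => hw2 (H.subtype_injective (by rw [map_mul, map_one]; exact h)))
  obtain ⟨S⟩ : Nonempty (Sylow 2 SL(2, ZMod p)) := inferInstance
  let ψ' : SL(2, ZMod p) →* ρ.range := ψ.codRestrict ρ.range fun z => hψr ⟨z, rfl⟩
  have hψ' : Function.Injective ψ' := fun z w h => hψ (congrArg Subtype.val h)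
  obtain ⟨R, hR⟩ := (S.2.map ψ').exists_le_sylow
  let T' : Sylow 2 ρ.range := TH.mapSurjective ρ.rangeRestrict_surjective
  obtain ⟨g, hg⟩ := MulAction.exists_smul_eq ρ.range T' R
  have hRc : SqComm (R : Subgroup ρ.range) := by
    rw [← hg]
    exact sqComm_map _ (sqComm_map _ hTH)
  have hodd : Odd (Nat.card (ZMod p)) := by
    rw [Nat.card_zmod]; exact (Fact.out : p.Prime).odd_of_ne_two hp2
  obtain ⟨k, hk, ⟨e⟩⟩ := SL2.sylow_two_quaternion hodd S
  haveI : Fact (2 < 2 * 2 ^ k) := ⟨by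
    have : 2 ≤ 2 ^ k := Nat.le_self_pow (by omega) 2
    omega⟩
  have hsq : ∀ z : QuaternionGroup (2 ^ k), z * z ≠ 1 →
      ψ' ((e.symm z : S) : SL(2, ZMod p)) * ψ' ((e.symm z : S) : SL(2, ZMod p)) ≠ 1 := by
    intro z hz h
    apply hz
    rw [← map_mul] at h
    have h1 := hψ' (h.trans (map_one ψ').symm)
    exact e.symm.injective (Subtype.ext (by rw [map_mul, map_one, Subgroup.coe_mul]; exact h1))
  have ha1 : (QuaternionGroup.a 1 : QuaternionGroup (2 ^ k)) * QuaternionGroup.a 1 ≠ 1 := by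
    rw [QuaternionGroup.a_mul_a, QuaternionGroup.one_def]
    intro h
    rw [QuaternionGroup.a.injEq] at h
    exact ZMod.neg_one_ne_one (eq_neg_of_add_eq_zero_left h).symm
  have hx1 : (QuaternionGroup.xa 0 : QuaternionGroup (2 ^ k)) * QuaternionGroup.xa 0 ≠ 1 := by
    rw [QuaternionGroup.xa_mul_xa, QuaternionGroup.one_def]
    intro h
    rw [QuaternionGroup.a.injEq] at h
    simp only [sub_zero, add_zero] at h
    have h2 := congrArg ZMod.val h
    have hlt : 2 ^ k < 2 * 2 ^ k := by have : 0 < 2 ^ k := by positivity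
                                       omega
    rw [ZMod.val_natCast_of_lt hlt, ZMod.val_zero] at h2
    have : 0 < 2 ^ k := by positivity
    omega
  have h := hRc _ (hR ⟨_, (e.symm (QuaternionGroup.a 1)).2, rfl⟩) _
    (hR ⟨_, (e.symm (QuaternionGroup.xa 0)).2, rfl⟩) (hsq _ ha1) (hsq _ hx1)
  rw [← map_mul, ← map_mul] at h
  have h' : QuaternionGroup.a (1 : ZMod (2 * 2 ^ k)) * QuaternionGroup.xa 0 =
      QuaternionGroup.xa 0 * QuaternionGroup.a 1 :=
    e.symm.injective (Subtype.ext (by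
      rw [map_mul, map_mul, Subgroup.coe_mul, Subgroup.coe_mul]; exact hψ' h))
  rw [QuaternionGroup.a_mul_xa, QuaternionGroup.xa_mul_a, zero_sub, zero_add,
    QuaternionGroup.xa.injEq] at h'
  exact ZMod.neg_one_ne_one h'

theorem exists_sqComm_psl {F : Type*} [Field F] [Finite F] (hodd : Odd (Nat.card F)) :
    ∃ T : Sylow 2 (ProjectiveSpecialLinearGroup (Fin 2) F), SqComm (T : Subgroup (ProjectiveSpecialLinearGroup (Fin 2) F)) := by
  obtain ⟨S⟩ : Nonempty (Sylow 2 SL(2, F)) := inferInstance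
  refine ⟨S.mapSurjective SL2.proj_surjective, ?_⟩
  obtain ⟨k, hk, ⟨e⟩⟩ := SL2.sylow_two_quaternion hodd S
  have h2 : (2 : F) ≠ 0 := SL2.odd_card_two_ne_zero hodd
  have key : ∀ x : S, SL2.proj (x : SL(2, F)) * SL2.proj (x : SL(2, F)) ≠ 1 →
      ∃ i, e x = QuaternionGroup.a i := by
    intro x hx
    rcases hz : e x with i | i
    · exact ⟨i, rfl⟩
    · exfalso
      apply hx
      have h4 : (x * x) * (x * x) = 1 := e.injective (by
        rw [map_mul, map_mul, hz, map_one]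
        simp only [QuaternionGroup.xa_mul_xa, QuaternionGroup.a_mul_a, QuaternionGroup.one_def,
          QuaternionGroup.a.injEq]
        rw [add_sub_cancel_right, ← Nat.cast_add, ← two_mul, ZMod.natCast_self])
      rw [← map_mul, SL2.proj_eq_one_iff]
      have h4' : ((x : SL(2, F)) * x) * ((x : SL(2, F)) * x) = 1 := congrArg Subtype.val h4
      by_cases h1 : (x : SL(2, F)) * x = 1
      · rw [h1]; exact one_mem _
      · rw [SL2.eq_neg_one_of_mul_self h2 h4' h1]; exact SL2.neg_one_mem_center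
  rintro _ ⟨u, hu, rfl⟩ _ ⟨w, hw, rfl⟩ hu2 hw2
  obtain ⟨i, hi⟩ := key ⟨u, hu⟩ hu2
  obtain ⟨j, hj⟩ := key ⟨w, hw⟩ hw2
  rw [← map_mul, ← map_mul]
  refine congrArg SL2.proj (congrArg Subtype.val (e.injective (show e (⟨u, hu⟩ * ⟨w, hw⟩) = e (⟨w, hw⟩ * ⟨u, hu⟩) by
    rw [map_mul, map_mul, hi, hj, QuaternionGroup.a_mul_a, QuaternionGroup.a_mul_a, add_comm])))

theorem pCore_psl_eq_bot {F : Type*} [Field F] [Finite F] (p : ℕ) [Fact p.Prime] [CharP F p] :
    Cfsg.pCore p (ProjectiveSpecialLinearGroup (Fin 2) F) = ⊥ := by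
  refine le_bot_iff.1 (sSup_le ?_)
  rintro N ⟨hN, hNp⟩ u hu
  rw [Subgroup.mem_bot]
  by_contra hu1
  obtain ⟨k, hk⟩ := SL2.exists_conj_mem_upperPSL p hNp
  have hle : ∀ z ∈ N, z ∈ SL2.upperPSL F := fun z hz => by
    have := hk _ (hN.conj_mem z hz k⁻¹)
    simpa [mul_assoc] using this
  exact SL2.borelPSL_ne_top (Subgroup.eq_top_iff' _ |>.2 fun y =>
    SL2.mem_borelPSL_of_conj (hle u hu) hu1 (hle _ (hN.conj_mem u hu y)))

end CfsgLib.Quadratic
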